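import Cfsg.Agent.H622.PB.Sch
import Cfsg.Agent.H622.PB.Abs

/-!
# `F₄(2)`: the permutation character of degree 69615 (helper622)

`dec` : it is the sum of irreducible characters of the degrees `1, 1105, 1377, 22932, 44200`.
-/

set_option autoImplicit false

open Cfsg

namespace Cfsg.Agent.H622.PB.Chars

open Cfsg.Agent.Blocks.Blau Cfsg.Agent.FourTwo.Base Cfsg.Agent.H622.PB.Sch Cfsg.Agent.H622.PB.Abs
open Cfsg.Agent.H593.IMFrame (Sub Rel perm)

attribute [local irreducible] x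

/-- the intersection numbers -/
def MM : Fin 5 → Fin 5 → ℕ := ![![0, 270, 0, 0, 0], ![1, 29, 112, 128, 0], ![0, 15, 15, 240, 0],
  ![0, 1, 14, 127, 128], ![0, 0, 0, 135, 135]]

theorem MM_eq : ∀ i j, kk i * MM i j = kk 1 * mm i j := by decide +kernel

theorem kk_pos : ∀ i, 0 < kk i := by decide

theorem n_pa : n 0 • pa = pb 1 := by
  apply Subtype.ext
  rw [coe_smul, coe_pa, n_conj (by omega) (by omega)]
  rfl

instance finLL : Finite LL := inferInstance

theorem card_MM [Fintype X] (i j : Fin 5) : {y | Rel LL pa (pb 1) (pb i) y ∧ Rel LL pa (pb j) pa y}.ncard = MM i j := by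
  have h1 := ncard_mul sub (n := n 0) (n_mul_self (by omega)) n_pa i j
  have h2 : {z | Rel LL pa (pb i) pa z ∧ Rel LL pa (pb j) pa (n 0 • z)}.ncard = mm i j := by
    rw [← card_m]
    simp only [rel_iff]
  rw [h2, ← MM_eq] at h1
  exact Nat.eq_of_mul_eq_mul_left (kk_pos i) h1

theorem exists_of_vec [Fintype LL] [Fintype X] (θ : ℚ) (V : Fin 5 → ℚ) (d : ℕ) (hV0 : V 0 = 1)
    (hd : (d : ℚ) * ∑ j, (kk j : ℚ) * V j ^ 2 = 69615) (hV : ∀ i, ∑ j, (MM i j : ℚ) * V j = θ * V i)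
    (hu : ∀ z : Fin 5 → ℂ, (∀ i, ∑ j, (MM i j : ℂ) * z j = (θ : ℂ) * z i) → ∀ i, z i = z 0 * V i) :
    ∃ χ : IrrCharacter LL, charDegree (χ : LL → ℂ) = d ∧ classInner (perm LL X) (χ : LL → ℂ) ≠ 0 := by
  obtain ⟨χ, h1, h2⟩ := Cfsg.Agent.H894.PQ.Hecke.exists_sph sub 1 0 rfl MM card_MM θ V hV0 hV hu
  refine ⟨χ, ?_, inner_ne_of_sph sub rfl (by rw [hV0]; norm_num) h1⟩
  rw [card_X] at h2
  have h3 : (∑ j, (kk j : ℚ) * V j ^ 2) ≠ 0 := by
    intro h0
    rw [h0, mul_zero] at hd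
    norm_num at hd
  have h4 : (charDegree (χ : LL → ℂ) : ℚ) = d := by
    apply mul_right_cancel₀ h3
    rw [h2, hd]
    norm_num
  exact_mod_cast h4

section ev

variable [Fintype LL] [Fintype X]

theorem exists_1 : ∃ χ : IrrCharacter LL, charDegree (χ : LL → ℂ) = 1 ∧
    classInner (perm LL X) (χ : LL → ℂ) ≠ 0 := by
  refine exists_of_vec (270) ![1, 1, 1, 1, 1] 1 (by decide +kernel) (by decide +kernel) (by decide +kernel) ?_
  intro z hz
  have e0 := hz 0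
  have e1 := hz 1
  have e2 := hz 2
  have e3 := hz 3
  have e4 := hz 4
  simp only [Fin.sum_univ_five, MM, Matrix.cons_val_zero, Matrix.cons_val_one, Matrix.cons_val, Nat.cast_ofNat,
    Nat.cast_zero, Nat.cast_one] at e0 e1 e2 e3 e4
  push_cast at e0 e1 e2 e3 e4
  intro i
  match i with
  | 0 =>
    show z 0 = z 0 * ((1 : ℚ) : ℂ)
    push_cast
    ring
  | 1 =>
    show z 1 = z 0 * ((1 : ℚ) : ℂ)
    push_cast
    linear_combination (1/270 : ℂ) * e0
  | 2 =>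
    show z 2 = z 0 * ((1 : ℚ) : ℂ)
    push_cast
    linear_combination (83/22320 : ℂ) * e0 + (1/248 : ℂ) * e1 + (-1/465 : ℂ) * e2
  | 3 =>
    show z 3 = z 0 * ((1 : ℚ) : ℂ)
    push_cast
    linear_combination (797/214272 : ℂ) * e0 + (17/3968 : ℂ) * e1 + (7/3720 : ℂ) * e2
  | 4 =>
    show z 4 = z 0 * ((1 : ℚ) : ℂ)
    push_cast
    linear_combination (18893/5079040 : ℂ) * e0 + (2207/507904 : ℂ) * e1 + (371/158720 : ℂ) * e2 + (1/128 : ℂ) * e3

theorem exists_1105 : ∃ χ : IrrCharacter LL, charDegree (χ : LL → ℂ) = 1105 ∧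
    classInner (perm LL X) (χ : LL → ℂ) ≠ 0 := by
  refine exists_of_vec (-45) ![1, -1 / 6, 1 / 8, -1 / 48, 1 / 64] 1105 (by decide +kernel) (by decide +kernel) (by decide +kernel) ?_
  intro z hz
  have e0 := hz 0
  have e1 := hz 1
  have e2 := hz 2
  have e3 := hz 3
  have e4 := hz 4
  simp only [Fin.sum_univ_five, MM, Matrix.cons_val_zero, Matrix.cons_val_one, Matrix.cons_val, Nat.cast_ofNat,
    Nat.cast_zero, Nat.cast_one] at e0 e1 e2 e3 e4
  push_cast at e0 e1 e2 e3 e4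
  intro i
  match i with
  | 0 =>
    show z 0 = z 0 * ((1 : ℚ) : ℂ)
    push_cast
    ring
  | 1 =>
    show z 1 = z 0 * ((-1 / 6 : ℚ) : ℂ)
    push_cast
    linear_combination (1/270 : ℂ) * e0
  | 2 =>
    show z 2 = z 0 * ((1 / 8 : ℚ) : ℂ)
    push_cast
    linear_combination (-11/3600 : ℂ) * e0 + (1/80 : ℂ) * e1 + (-1/150 : ℂ) * e2
  | 3 =>
    show z 3 = z 0 * ((-1 / 48 : ℚ) : ℂ)
    push_cast
    linear_combination (23/43200 : ℂ) * e0 + (-1/320 : ℂ) * e1 + (7/1200 : ℂ) * e2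
  | 4 =>
    show z 4 = z 0 * ((1 / 64 : ℚ) : ℂ)
    push_cast
    linear_combination (-21/51200 : ℂ) * e0 + (29/10240 : ℂ) * e1 + (-91/12800 : ℂ) * e2 + (1/128 : ℂ) * e3

theorem exists_1377 : ∃ χ : IrrCharacter LL, charDegree (χ : LL → ℂ) = 1377 ∧
    classInner (perm LL X) (χ : LL → ℂ) ≠ 0 := by
  refine exists_of_vec (75) ![1, 5 / 18, 7 / 72, 1 / 144, -1 / 64] 1377 (by decide +kernel) (by decide +kernel) (by decide +kernel) ?_
  intro z hz
  have e0 := hz 0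
  have e1 := hz 1
  have e2 := hz 2
  have e3 := hz 3
  have e4 := hz 4
  simp only [Fin.sum_univ_five, MM, Matrix.cons_val_zero, Matrix.cons_val_one, Matrix.cons_val, Nat.cast_ofNat,
    Nat.cast_zero, Nat.cast_one] at e0 e1 e2 e3 e4
  push_cast at e0 e1 e2 e3 e4
  intro i
  match i with
  | 0 =>
    show z 0 = z 0 * ((1 : ℚ) : ℂ)
    push_cast
    ring
  | 1 =>
    show z 1 = z 0 * ((5 / 18 : ℚ) : ℂ)
    push_cast
    linear_combination (1/270 : ℂ) * e0
  | 2 =>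
    show z 2 = z 0 * ((7 / 72 : ℚ) : ℂ)
    push_cast
    linear_combination (1/720 : ℂ) * e0 + (1/144 : ℂ) * e1 + (-1/270 : ℂ) * e2
  | 3 =>
    show z 3 = z 0 * ((1 / 144 : ℚ) : ℂ)
    push_cast
    linear_combination (1/8640 : ℂ) * e0 + (1/576 : ℂ) * e1 + (7/2160 : ℂ) * e2
  | 4 =>
    show z 4 = z 0 * ((-1 / 64 : ℚ) : ℂ)
    push_cast
    linear_combination (-7/30720 : ℂ) * e0 + (-3/2048 : ℂ) * e1 + (-7/7680 : ℂ) * e2 + (1/128 : ℂ) * e3

theorem exists_22932 : ∃ χ : IrrCharacter LL, charDegree (χ : LL → ℂ) = 22932 ∧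
    classInner (perm LL X) (χ : LL → ℂ) ≠ 0 := by
  refine exists_of_vec (15) ![1, 1 / 18, -1 / 84, -1 / 288, 1 / 256] 22932 (by decide +kernel) (by decide +kernel) (by decide +kernel) ?_
  intro z hz
  have e0 := hz 0
  have e1 := hz 1
  have e2 := hz 2
  have e3 := hz 3
  have e4 := hz 4
  simp only [Fin.sum_univ_five, MM, Matrix.cons_val_zero, Matrix.cons_val_one, Matrix.cons_val, Nat.cast_ofNat,
    Nat.cast_zero, Nat.cast_one] at e0 e1 e2 e3 e4
  push_cast at e0 e1 e2 e3 e4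
  intro i
  match i with
  | 0 =>
    show z 0 = z 0 * ((1 : ℚ) : ℂ)
    push_cast
    ring
  | 1 =>
    show z 1 = z 0 * ((1 / 18 : ℚ) : ℂ)
    push_cast
    linear_combination (1/270 : ℂ) * e0
  | 2 =>
    show z 2 = z 0 * ((-1 / 84 : ℚ) : ℂ)
    push_cast
    linear_combination (-1/5040 : ℂ) * e0 + (1/112 : ℂ) * e1 + (-1/210 : ℂ) * e2
  | 3 =>
    show z 3 = z 0 * ((-1 / 288 : ℚ) : ℂ)
    push_cast
    linear_combination (-1/4320 : ℂ) * e0 + (1/240 : ℂ) * e2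
  | 4 =>
    show z 4 = z 0 * ((1 / 256 : ℚ) : ℂ)
    push_cast
    linear_combination (1/5120 : ℂ) * e0 + (-1/1024 : ℂ) * e1 + (-1/320 : ℂ) * e2 + (1/128 : ℂ) * e3

theorem exists_44200 : ∃ χ : IrrCharacter LL, charDegree (χ : LL → ℂ) = 44200 ∧
    classInner (perm LL X) (χ : LL → ℂ) ≠ 0 := by
  refine exists_of_vec (-9) ![1, -1 / 30, 0, 1 / 480, -1 / 512] 44200 (by decide +kernel) (by decide +kernel) (by decide +kernel) ?_
  intro z hz
  have e0 := hz 0
  have e1 := hz 1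
  have e2 := hz 2
  have e3 := hz 3
  have e4 := hz 4
  simp only [Fin.sum_univ_five, MM, Matrix.cons_val_zero, Matrix.cons_val_one, Matrix.cons_val, Nat.cast_ofNat,
    Nat.cast_zero, Nat.cast_one] at e0 e1 e2 e3 e4
  push_cast at e0 e1 e2 e3 e4
  intro i
  match i with
  | 0 =>
    show z 0 = z 0 * ((1 : ℚ) : ℂ)
    push_cast
    ring
  | 1 =>
    show z 1 = z 0 * ((-1 / 30 : ℚ) : ℂ)
    push_cast
    linear_combination (1/270 : ℂ) * e0
  | 2 =>
    show z 2 = z 0 * ((0 : ℚ) : ℂ)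
    push_cast
    linear_combination (-5/4464 : ℂ) * e0 + (5/496 : ℂ) * e1 + (-1/186 : ℂ) * e2
  | 3 =>
    show z 3 = z 0 * ((1 / 480 : ℚ) : ℂ)
    push_cast
    linear_combination (-1/8370 : ℂ) * e0 + (-1/992 : ℂ) * e1 + (7/1488 : ℂ) * e2
  | 4 =>
    show z 4 = z 0 * ((-1 / 512 : ℚ) : ℂ)
    push_cast
    linear_combination (7/31744 : ℂ) * e0 + (-1/31744 : ℂ) * e1 + (-35/7936 : ℂ) * e2 + (1/128 : ℂ) * e3

/-- the degrees -/
def dd : Fin 5 → ℕ := ![1, 1105, 1377, 22932, 44200]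

/-- **the decomposition of the permutation character** -/
theorem dec : ∃ χ : Fin 5 → IrrCharacter LL, (∀ t, charDegree (χ t : LL → ℂ) = dd t) ∧ Function.Injective χ ∧
    ∀ g, perm LL X g = ∑ t, (χ t : LL → ℂ) g := by
  refine exists_dec sub dd (by decide) fun t => ?_
  fin_cases t
  · exact exists_1
  · exact exists_1105
  · exact exists_1377
  · exact exists_22932
  · exact exists_44200

end ev

open Cfsg.Agent.H706.PB in
/-- **`F₄(2)`**, the primes `3, 5, 7, 13` -/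
theorem rowReal {p : ℕ} (hp : p = 3 ∨ p = 5 ∨ p = 7 ∨ p = 13) : RowReal p LL := by
  classical
  have := Fintype.ofFinite LL
  have := Fintype.ofFinite X
  obtain ⟨χ, h1, h2, h3⟩ := dec
  rcases hp with rfl | rfl | rfl | rfl
  · have : Fact (Nat.Prime 3) := ⟨by norm_num⟩
    exact rowReal_of_dec sub (by rw [card_X]; norm_num) (by decide) h1 h2 h3 (by decide +kernel)
  · have : Fact (Nat.Prime 5) := ⟨by norm_num⟩
    exact rowReal_of_dec sub (by rw [card_X]; norm_num) (by decide) h1 h2 h3 (by decide +kernel)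
  · have : Fact (Nat.Prime 7) := ⟨by norm_num⟩
    exact rowReal_of_dec sub (by rw [card_X]; norm_num) (by decide) h1 h2 h3 (by decide +kernel)
  · have : Fact (Nat.Prime 13) := ⟨by norm_num⟩
    exact rowReal_of_dec sub (by rw [card_X]; norm_num) (by decide) h1 h2 h3 (by decide +kernel)

end Cfsg.Agent.H622.PB.Chars
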