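import Cfsg.Agent.H622.PB.Chars
import Cfsg.Agent.H80.PB.RealT
import Cfsg.Agent.H392.FFourTwo.Degree
import Cfsg.Agent.FourTwo.ClassSep

/-!
# S4884, the row `F₄(2)` (helper622)

`q = 3, 5, 7, 13`: constituents of degree 1105, 1377 of the permutation character of degree 69615 (`Chars.rowReal`);
`q = 17`: a real element of order 17 (T2).
-/

set_option autoImplicit false
set_option maxRecDepth 100000

open Cfsg

namespace Cfsg.Agent.H622.PB.F42

open Cfsg.Agent.FourTwo.Base Cfsg.Agent.H706.PB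

/-- the involution `x 44 * x 32` -/
def t1 : List ℕ := [44, 32]

/-- a conjugate -/
def t2 : List ℕ := [7, 32, 41, 8, 22] ++ [44, 32] ++ [22, 8, 41, 32, 7]

/-- an element of order 17 -/
def y : List ℕ := t1 ++ t2

def rep : ℕ → List ℕ → List ℕ
  | 0, _ => []
  | n + 1, w => w ++ rep n w

theorem wd_rep (k : ℕ) (w : List ℕ) : wd (rep k w) = wd w ^ k := by
  induction k with
  | zero => rfl
  | succ k ih => rw [rep, wd_append, ih, pow_succ']

theorem y17 : wd y ^ 17 = 1 := by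
  rw [← wd_rep, wd_eq (rep 17 y) [] (by decide +kernel)]
  rfl

theorem t1_sq : wd t1 * wd t1 = 1 := by
  rw [← wd_append, wd_eq (t1 ++ t1) [] (by decide +kernel)]
  rfl

theorem t2_sq : wd t2 * wd t2 = 1 := by
  rw [← wd_append, wd_eq (t2 ++ t2) [] (by decide +kernel)]
  rfl

/-- `y` is real -/
theorem y_real : IsConj (wd y) (wd y)⁻¹ := by
  rw [isConj_iff]
  refine ⟨wd t1, ?_⟩
  have h1 : wd y = wd t1 * wd t2 := wd_append t1 t2
  have h2 : (wd t1)⁻¹ = wd t1 := inv_eq_of_mul_eq_one_left t1_sq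
  have h3 : (wd t2)⁻¹ = wd t2 := inv_eq_of_mul_eq_one_left t2_sq
  rw [h1, mul_inv_rev, h2, h3, ← mul_assoc, t1_sq, one_mul]

open Cfsg.Agent.FourTwo.ClassSep in
theorem y_ne : wd y ≠ 1 := by
  intro h
  have h1 : iv y = iv [] := by
    rw [← rk2_wd y (by decide), ← rk2_wd [] (by decide), h]
    rfl
  exact absurd h1 (by decide +kernel)

theorem order_y : 17 ∣ orderOf (wd y) := by
  have : Fact (Nat.Prime 17) := ⟨by norm_num⟩
  rw [orderOf_eq_prime y17 y_ne]

theorem row17 : RowReal 17 LL := by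
  have : Fact (Nat.Prime 17) := ⟨by norm_num⟩
  refine Cfsg.Agent.H80.PB.RowReal.of_exact ?_ order_y y_real
  rw [Cfsg.Agent.H392.FFourTwo.card_LL]
  norm_num

theorem prime_cases {p : ℕ} (hp : p.Prime) (h2 : p ≠ 2) (h : p ∣ 2 ^ 24 * (3 ^ 6 * (5 ^ 2 * (7 ^ 2 * (13 * 17))))) :
    p = 3 ∨ p = 5 ∨ p = 7 ∨ p = 13 ∨ p = 17 := by
  have key : ∀ {a : ℕ}, a.Prime → p ∣ a → p = a := fun ha h => (Nat.prime_dvd_prime_iff_eq hp ha).1 h
  rcases (Nat.Prime.dvd_mul hp).1 h with h | h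
  · exact absurd (key Nat.prime_two (hp.dvd_of_dvd_pow h)) h2
  rcases (Nat.Prime.dvd_mul hp).1 h with h | h
  · exact Or.inl (key (by norm_num) (hp.dvd_of_dvd_pow h))
  rcases (Nat.Prime.dvd_mul hp).1 h with h | h
  · exact Or.inr (Or.inl (key (by norm_num) (hp.dvd_of_dvd_pow h)))
  rcases (Nat.Prime.dvd_mul hp).1 h with h | h
  · exact Or.inr (Or.inr (Or.inl (key (by norm_num) (hp.dvd_of_dvd_pow h))))
  rcases (Nat.Prime.dvd_mul hp).1 h with h | h
  · exact Or.inr (Or.inr (Or.inr (Or.inl (key (by norm_num) h))))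
  · exact Or.inr (Or.inr (Or.inr (Or.inr (key (by norm_num) h))))

/-- **`F₄(2)`**, all odd primes -/
theorem row_LL {q : ℕ} (hq : q.Prime) (h2 : q ≠ 2) (hd : q ∣ Nat.card LL) : RowReal q LL := by
  rw [Cfsg.Agent.H392.FFourTwo.card_LL] at hd
  rcases prime_cases hq h2 hd with rfl | rfl | rfl | rfl | rfl
  · exact Chars.rowReal (by norm_num)
  · exact Chars.rowReal (by norm_num)
  · exact Chars.rowReal (by norm_num)
  · exact Chars.rowReal (by norm_num)
  · exact row17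

/-- **S4884, the row `F₄(2)`** -/
theorem row_f42 {q : ℕ} (hq : q.Prime) (h2 : q ≠ 2) {F : Type} [Field F] [Fintype F] (hF : Fintype.card F = 2)
    (hd : q ∣ Nat.card ↥(Lie.chevF4.group F)) : RowReal q ↥(Lie.chevF4.group F) := by
  have h3 : Fintype.card F = Fintype.card (ZMod 2) := by rw [hF, ZMod.card]
  have φ : F ≃+* ZMod 2 := FiniteField.ringEquivOfCardEq h3
  have h4 : Nat.card ↥(Lie.chevF4.group F) = Nat.card LL :=
    Nat.card_congr (ChevalleyStructure.FieldIso.groupEquiv Lie.chevF4 φ).toEquiv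
  rw [h4] at hd
  exact RowReal.congr (ChevalleyStructure.FieldIso.groupEquiv Lie.chevF4 φ) (row_LL hq h2 hd)

end Cfsg.Agent.H622.PB.F42
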